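import Groth.Agent.FlatLib.GenericFree
import Groth.Agent.KFlatLib.CxFlat
import Mathlib

/-! # Exactness of the fibres is generically constant over a Noetherian domain -/

set_option autoImplicit false

universe u

open TensorProduct

namespace FibExactLib

variable {D : Type u} [CommRing D]

/-- A sequence `A₀ → A₁ → A₂ ← A₃` which is exact at `A₁` modulo the image of `A₃`. -/
def Good {K : Type*} [CommRing K] {A0 A1 A2 A3 : Type*} [AddCommGroup A0] [Module K A0] [AddCommGroup A1] [Module K A1]
    [AddCommGroup A2] [Module K A2] [AddCommGroup A3] [Module K A3]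
    (u : A0 →ₗ[K] A1) (v : A1 →ₗ[K] A2) (w : A3 →ₗ[K] A2) : Prop :=
  ∀ x, v x ∈ LinearMap.range w ↔ x ∈ LinearMap.range u

theorem subsingleton_tensor_iff {g : D} (K : Type u) [Field K] [Algebra D K] (hg : algebraMap D K g ≠ 0)
    {X : Type u} [AddCommGroup X] [Module D X] (hX : Module.Free (Localization.Away g) (Localization.Away g ⊗[D] X)) :
    Subsingleton (K ⊗[D] X) ↔ Subsingleton (Localization.Away g ⊗[D] X) := by
  let L := Localization.Away g
  have hu : IsUnit (algebraMap D K g) := Ne.isUnit hg
  letI : Algebra L K := (IsLocalization.Away.lift g hu).toAlgebra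
  haveI : IsScalarTower D L K := IsScalarTower.of_algebraMap_eq fun r => (IsLocalization.Away.lift_eq g hu r).symm
  rw [← (AlgebraTensorModule.cancelBaseChange D L K K X).toEquiv.subsingleton_congr]
  refine ⟨fun h => ?_, fun h => inferInstance⟩
  let b := Module.Free.chooseBasis L (L ⊗[D] X)
  by_contra hne
  rw [not_subsingleton_iff_nontrivial] at hne
  obtain ⟨i⟩ := b.index_nonempty
  have h1 := (Algebra.TensorProduct.basis K b).ne_zero i
  exact h1 (Subsingleton.elim _ _)

theorem lTensor_injective_of_free {g : D} (K : Type u) [Field K] [Algebra D K] (hg : algebraMap D K g ≠ 0)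
    {X Y C : Type u} [AddCommGroup X] [Module D X] [AddCommGroup Y] [Module D Y] [AddCommGroup C] [Module D C]
    (f : X →ₗ[D] Y) (p : Y →ₗ[D] C) (hf : Function.Injective f) (hfp : Function.Exact f p) (hp : Function.Surjective p)
    (hC : Module.Free (Localization.Away g) (Localization.Away g ⊗[D] C)) : Function.Injective (f.lTensor K) := by
  let L := Localization.Away g
  have hu : IsUnit (algebraMap D K g) := Ne.isUnit hg
  letI : Algebra L K := (IsLocalization.Away.lift g hu).toAlgebra
  haveI : IsScalarTower D L K := IsScalarTower.of_algebraMap_eq fun r => (IsLocalization.Away.lift_eq g hu r).symm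
  haveI : Module.Flat D L := IsLocalization.flat L (Submonoid.powers g)
  have h1 : Function.Injective (f.baseChange L) := by
    rw [LinearMap.baseChange_eq_ltensor]; exact Module.Flat.lTensor_preserves_injective_linearMap f hf
  have h2 : Function.Exact (f.baseChange L) (p.baseChange L) := by
    rw [LinearMap.baseChange_eq_ltensor, LinearMap.baseChange_eq_ltensor]; exact lTensor_exact L hfp hp
  have h3 : Function.Surjective (p.baseChange L) := by
    rw [LinearMap.baseChange_eq_ltensor]; exact LinearMap.lTensor_surjective L hp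
  have h4 := KFlatLib.rTensor_injective_of_flat_quotient (f.baseChange L) (p.baseChange L) h1 h2 h3 K
  rw [← LinearMap.lTensor_inj_iff_rTensor_inj] at h4
  let eX := AlgebraTensorModule.cancelBaseChange D L K K X
  let eY := AlgebraTensorModule.cancelBaseChange D L K K Y
  have hc : ∀ z, f.lTensor K (eX z) = eY ((f.baseChange L).lTensor K z) := fun z => by
    induction z with
    | zero => simp
    | add a b ha hb => simp only [map_add, ha, hb]
    | tmul k w =>
      induction w with
      | zero => simp
      | add a b ha hb => simp only [tmul_add, map_add, ha, hb]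
      | tmul l x => simp [eX, eY]
  intro a b hab
  obtain ⟨a, rfl⟩ := eX.surjective a
  obtain ⟨b, rfl⟩ := eX.surjective b
  rw [hc, hc] at hab
  exact congrArg eX (h4 (eY.injective hab))

theorem exists_smul_eq_zero {g : D} {J : Type u} [AddCommGroup J] [Module D J]
    (h : Subsingleton (Localization.Away g ⊗[D] J)) (x : J) : ∃ n : ℕ, g ^ n • x = 0 := by
  haveI : IsLocalizedModule (Submonoid.powers g) (TensorProduct.mk D (Localization.Away g) J 1) :=
    (isLocalizedModule_iff_isBaseChange (Submonoid.powers g) (Localization.Away g) _).2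
      (TensorProduct.isBaseChange D J (Localization.Away g))
  obtain ⟨⟨_, n, rfl⟩, hn⟩ := (IsLocalizedModule.eq_zero_iff (Submonoid.powers g)
    (TensorProduct.mk D (Localization.Away g) J 1) (m := x)).1 (Subsingleton.elim _ _)
  exact ⟨n, hn⟩

theorem exact_subtype_mkQ {T : Type u} [CommRing T] [Algebra D T] {H : Type u} [AddCommGroup H] [Module T H] [Module D H]
    [IsScalarTower D T H] (J : Submodule T H) :
    Function.Exact (J.subtype.restrictScalars D) (J.mkQ.restrictScalars D) :=
  fun z => (Submodule.Quotient.mk_eq_zero J).trans ⟨fun h => ⟨⟨z, h⟩, rfl⟩, fun ⟨y, hy⟩ => hy ▸ y.2⟩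

theorem lTensor_injective_submodule {g : D} (K : Type u) [Field K] [Algebra D K] (hg : algebraMap D K g ≠ 0)
    {T : Type u} [CommRing T] [Algebra D T] {H : Type u} [AddCommGroup H] [Module T H] [Module D H]
    [IsScalarTower D T H] (J : Submodule T H)
    (hC : Module.Free (Localization.Away g) (Localization.Away g ⊗[D] (H ⧸ J))) :
    Function.Injective ((J.subtype.restrictScalars D).lTensor K) :=
  lTensor_injective_of_free K hg (J.subtype.restrictScalars D) (J.mkQ.restrictScalars D) Subtype.val_injective
    (exact_subtype_mkQ J) J.mkQ_surjective hC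

variable [IsDomain D] [IsNoetherianRing D] {S : Type u} [CommRing S] [Algebra D S] [Algebra.FiniteType D S]
  {A0 A1 A2 A3 : Type u} [AddCommGroup A0] [Module S A0] [Module D A0] [IsScalarTower D S A0] [Module.Finite S A0]
  [AddCommGroup A1] [Module S A1] [Module D A1] [IsScalarTower D S A1] [Module.Finite S A1]
  [AddCommGroup A2] [Module S A2] [Module D A2] [IsScalarTower D S A2] [Module.Finite S A2]
  [AddCommGroup A3] [Module S A3] [Module D A3] [IsScalarTower D S A3]

/-- On a nonempty open of the base, exactness of the fibres does not depend on the point. -/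
theorem exists_uniform (u : A0 →ₗ[S] A1) (v : A1 →ₗ[S] A2) (w : A3 →ₗ[S] A2) :
    ∃ g : D, g ≠ 0 ∧ ∀ (K L : Type u) [Field K] [Algebra D K] [Field L] [Algebra D L],
      algebraMap D K g ≠ 0 → algebraMap D L g ≠ 0 →
      (Good ((u.restrictScalars D).baseChange K) ((v.restrictScalars D).baseChange K) ((w.restrictScalars D).baseChange K) ↔
        Good ((u.restrictScalars D).baseChange L) ((v.restrictScalars D).baseChange L)
          ((w.restrictScalars D).baseChange L)) := by
  classical
  haveI : IsNoetherianRing S := Algebra.FiniteType.isNoetherianRing D S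
  let q := (LinearMap.range w).mkQ
  let v' : A1 →ₗ[S] A2 ⧸ LinearMap.range w := q ∘ₗ v
  let c := v' ∘ₗ u
  let J := LinearMap.range c
  let I := LinearMap.range v'
  let Z := LinearMap.ker v'
  obtain ⟨a₁, ha₁, hJ⟩ := FlatLib.gfree_of_finite (R := D) S J
  obtain ⟨a₂, ha₂, hHJ⟩ := FlatLib.gfree_of_finite (R := D) S ((A2 ⧸ LinearMap.range w) ⧸ J)
  obtain ⟨a₄, ha₄, hHI⟩ := FlatLib.gfree_of_finite (R := D) S ((A2 ⧸ LinearMap.range w) ⧸ I)
  obtain ⟨a₅, ha₅, hI⟩ := FlatLib.gfree_of_finite (R := D) S I
  have key : ∀ (K : Type u) [Field K] [Algebra D K] (x : K ⊗[D] A1),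
      (v.restrictScalars D).lTensor K x ∈ LinearMap.range ((w.restrictScalars D).lTensor K) ↔
        (v'.restrictScalars D).lTensor K x = 0 := fun K _ _ x => by
    have hex : Function.Exact ((w.restrictScalars D).lTensor K) ((q.restrictScalars D).lTensor K) :=
      lTensor_exact K (fun z => (Submodule.Quotient.mk_eq_zero _)) (Submodule.mkQ_surjective _)
    rw [show (v'.restrictScalars D) = (q.restrictScalars D) ∘ₗ (v.restrictScalars D) from rfl,
      LinearMap.lTensor_comp_apply]
    exact ((hex _).trans Iff.rfl).symm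
  have good_iff : ∀ (K : Type u) [Field K] [Algebra D K],
      Good ((u.restrictScalars D).baseChange K) ((v.restrictScalars D).baseChange K) ((w.restrictScalars D).baseChange K) ↔
        ∀ x, (v'.restrictScalars D).lTensor K x = 0 ↔ x ∈ LinearMap.range ((u.restrictScalars D).lTensor K) := fun K _ _ =>
    forall_congr' fun x => iff_congr (key K x) Iff.rfl
  by_cases hc : ∃ t : D, t ≠ 0 ∧ ∀ y, t • c y = 0
  · obtain ⟨t, ht, htc⟩ := hc
    let u'' : A0 →ₗ[S] Z := (algebraMap D S t • u).codRestrict Z fun y => by
      show v' (algebraMap D S t • u y) = 0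
      rw [map_smul, algebraMap_smul]
      exact htc y
    obtain ⟨a₃, ha₃, hE⟩ := FlatLib.gfree_of_finite (R := D) S (Z ⧸ LinearMap.range u'')
    refine ⟨a₄ * a₅ * a₃ * t, mul_ne_zero (mul_ne_zero (mul_ne_zero ha₄ ha₅) ha₃) ht, ?_⟩
    suffices H : ∀ (K : Type u) [Field K] [Algebra D K], algebraMap D K (a₄ * a₅ * a₃ * t) ≠ 0 →
        (Good ((u.restrictScalars D).baseChange K) ((v.restrictScalars D).baseChange K)
            ((w.restrictScalars D).baseChange K) ↔
          Subsingleton (Localization.Away a₃ ⊗[D] (Z ⧸ LinearMap.range u''))) from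
      fun K L _ _ _ _ hK hL => (H K hK).trans (H L hL).symm
    intro K _ _ hK
    simp only [map_mul, mul_ne_zero_iff] at hK
    obtain ⟨⟨⟨h4, h5⟩, h3⟩, ht'⟩ := hK
    rw [good_iff, ← subsingleton_tensor_iff K h3 hE]
    let rr := v'.rangeRestrict.restrictScalars D
    let ιI := I.subtype.restrictScalars D
    let ιZ := Z.subtype.restrictScalars D
    let u₁ := u''.restrictScalars D
    have hιI : Function.Injective (ιI.lTensor K) :=
      lTensor_injective_submodule K h4 I hHI
    have hexZ : Function.Exact ιZ rr :=
      fun z => ⟨fun h => ⟨⟨z, congrArg Subtype.val h⟩, rfl⟩, fun ⟨y, hy⟩ => hy ▸ Subtype.ext y.2⟩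
    have hιZ : Function.Injective (ιZ.lTensor K) :=
      lTensor_injective_of_free K h5 ιZ rr Subtype.val_injective hexZ v'.surjective_rangeRestrict hI
    have hker : ∀ x, (v'.restrictScalars D).lTensor K x = 0 ↔ x ∈ LinearMap.range (ιZ.lTensor K) := fun x => by
      rw [show v'.restrictScalars D = ιI ∘ₗ rr from rfl, LinearMap.lTensor_comp_apply, map_eq_zero_iff _ hιI]
      exact (lTensor_exact K hexZ v'.surjective_rangeRestrict x)
    have hu : ∀ y, ιZ.lTensor K (u₁.lTensor K y) = algebraMap D K t • (u.restrictScalars D).lTensor K y := fun y => by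
      induction y with
      | zero => simp
      | add a b ha hb => simp only [map_add, smul_add, ha, hb]
      | tmul k a =>
        simp only [LinearMap.lTensor_tmul, algebraMap_smul]
        show k ⊗ₜ[D] (algebraMap D S t • u a) = t • (k ⊗ₜ[D] u a)
        rw [algebraMap_smul, tmul_smul]
    have hsm : ∀ (c : K) y, (u.restrictScalars D).lTensor K (c • y) = c • (u.restrictScalars D).lTensor K y := fun c y =>
      ((u.restrictScalars D).baseChange K).map_smul c y
    have hsZ : ∀ (c : K) y, ιZ.lTensor K (c • y) = c • ιZ.lTensor K y := fun c y => (ιZ.baseChange K).map_smul c y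
    have hsurj : Subsingleton (K ⊗[D] (Z ⧸ LinearMap.range u'')) ↔ Function.Surjective (u₁.lTensor K) := by
      let π := (LinearMap.range u'').mkQ.restrictScalars D
      have hex : Function.Exact (u₁.lTensor K) (π.lTensor K) :=
        lTensor_exact K (fun z => (Submodule.Quotient.mk_eq_zero _)) (Submodule.mkQ_surjective _)
      constructor
      · exact fun h y => (hex y).1 (Subsingleton.elim _ _)
      · intro h
        refine subsingleton_of_forall_eq 0 fun z => ?_
        obtain ⟨z, rfl⟩ := LinearMap.lTensor_surjective K (show Function.Surjective π from Submodule.mkQ_surjective _) z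
        exact (hex z).2 (h z)
    rw [hsurj]
    constructor
    · intro h y
      obtain ⟨z, hz⟩ := (h _).1 ((hker _).2 ⟨y, rfl⟩)
      refine ⟨(algebraMap D K t)⁻¹ • z, hιZ ?_⟩
      rw [hu, hsm, smul_smul, mul_inv_cancel₀ ht', one_smul, hz]
    · intro h x
      rw [hker]
      refine ⟨fun ⟨y, hy⟩ => ?_, fun ⟨y, hy⟩ => ?_⟩
      · obtain ⟨z, rfl⟩ := h y
        exact ⟨algebraMap D K t • z, by rw [hsm, ← hu, hy]⟩
      · exact ⟨(algebraMap D K t)⁻¹ • u₁.lTensor K y, by rw [hsZ, hu, smul_smul, inv_mul_cancel₀ ht', one_smul, hy]⟩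
  · refine ⟨a₁ * a₂, mul_ne_zero ha₁ ha₂, ?_⟩
    have hJne : ¬ Subsingleton (Localization.Away a₁ ⊗[D] J) := by
      intro hsub
      obtain ⟨gens, hgens⟩ := (Module.Finite.fg_top : (⊤ : Submodule S A0).FG)
      choose n hn using fun y : A0 => exists_smul_eq_zero hsub (⟨c y, y, rfl⟩ : J)
      refine hc ⟨a₁ ^ gens.sup n, pow_ne_zero _ ha₁, fun y => ?_⟩
      have hy : y ∈ Submodule.span S (gens : Set A0) := hgens ▸ trivial
      induction hy using Submodule.span_induction with
      | mem z hz =>
        rw [← Nat.sub_add_cancel (Finset.le_sup (f := n) hz), pow_add, mul_smul]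
        have h0 : a₁ ^ n z • c z = 0 := congrArg Subtype.val (hn z)
        rw [h0, smul_zero]
      | zero => simp
      | add z z' _ _ hz hz' => rw [map_add, smul_add, hz, hz', add_zero]
      | smul s z _ hz => rw [map_smul, smul_comm, hz, smul_zero]
    suffices H : ∀ (K : Type u) [Field K] [Algebra D K], algebraMap D K (a₁ * a₂) ≠ 0 →
        ¬ Good ((u.restrictScalars D).baseChange K) ((v.restrictScalars D).baseChange K)
            ((w.restrictScalars D).baseChange K) from
      fun K L _ _ _ _ hK hL => iff_of_false (H K hK) (H L hL)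
    intro K _ _ hK hG
    simp only [map_mul, mul_ne_zero_iff] at hK
    rw [good_iff] at hG
    let ιJ := J.subtype.restrictScalars D
    have hιJ : Function.Injective (ιJ.lTensor K) :=
      lTensor_injective_submodule K hK.2 J hHJ
    refine hJne ((subsingleton_tensor_iff K hK.1 hJ).1 (subsingleton_of_forall_eq 0 fun z => hιJ ?_))
    obtain ⟨z, rfl⟩ := LinearMap.lTensor_surjective K
      (show Function.Surjective (c.rangeRestrict.restrictScalars D) from c.surjective_rangeRestrict) z
    rw [map_zero, ← LinearMap.lTensor_comp_apply,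
      show ιJ ∘ₗ (c.rangeRestrict.restrictScalars D) = (v'.restrictScalars D) ∘ₗ (u.restrictScalars D) from rfl,
      LinearMap.lTensor_comp_apply]
    exact (hG _).2 ⟨z, rfl⟩

end FibExactLib
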