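import Groth.Agent.FibExactLib.Matrices
import Mathlib

/-! # Fibrewise exactness of sequences of finitely presented modules over finitely presented algebras -/

set_option autoImplicit false

universe u

open TensorProduct MvPolynomial

namespace FibExactLib

theorem exists_goodMat {R B : Type u} [CommRing R] [CommRing B] [Algebra R B] [Algebra.FinitePresentation R B]
    {F G H : Type u} [AddCommGroup F] [Module B F] [Module R F] [IsScalarTower R B F] [Module.FinitePresentation B F]
    [AddCommGroup G] [Module B G] [Module R G] [IsScalarTower R B G] [Module.FinitePresentation B G]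
    [AddCommGroup H] [Module B H] [Module R H] [IsScalarTower R B H] [Module.FinitePresentation B H]
    (u : F →ₗ[B] G) (v : G →ₗ[B] H) :
    ∃ (σ : Type u) (_ : Finite σ) (R₀ : Subalgebra ℤ R) (_ : IsNoetherianRing R₀) (a m h r : ℕ)
      (U : Matrix (Fin m) (Fin a) (MvPolynomial σ R₀)) (V : Matrix (Fin h) (Fin m) (MvPolynomial σ R₀))
      (W : Matrix (Fin h) (Fin r) (MvPolynomial σ R₀)),
      ∀ (K : Type u) [Field K] [Algebra R K],
        Function.Exact ((u.restrictScalars R).baseChange K) ((v.restrictScalars R).baseChange K) ↔
          GoodMat R₀ K U V W := by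
  obtain ⟨σ, _, π, hπ, hker⟩ := Algebra.FinitePresentation.iff_quotient_mvPolynomial'.1 ‹Algebra.FinitePresentation R B›
  let P := MvPolynomial σ R
  letI : Algebra P B := π.toRingHom.toAlgebra
  haveI : IsScalarTower R P B := IsScalarTower.of_algebraMap_eq fun x => (π.commutes x).symm
  haveI : Module.FinitePresentation P B :=
    Module.finitePresentation_of_surjective (Algebra.linearMap P B) hπ hker
  letI : Module P F := Module.compHom F π.toRingHom
  letI : Module P G := Module.compHom G π.toRingHom
  letI : Module P H := Module.compHom H π.toRingHom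
  haveI : IsScalarTower P B F := IsScalarTower.of_algebraMap_smul fun _ _ => rfl
  haveI : IsScalarTower P B G := IsScalarTower.of_algebraMap_smul fun _ _ => rfl
  haveI : IsScalarTower P B H := IsScalarTower.of_algebraMap_smul fun _ _ => rfl
  haveI : IsScalarTower R P F := IsScalarTower.of_algebraMap_smul fun r x => by
    show π (algebraMap R P r) • x = r • x
    rw [π.commutes, algebraMap_smul]
  haveI : IsScalarTower R P G := IsScalarTower.of_algebraMap_smul fun r x => by
    show π (algebraMap R P r) • x = r • x
    rw [π.commutes, algebraMap_smul]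
  haveI : IsScalarTower R P H := IsScalarTower.of_algebraMap_smul fun r x => by
    show π (algebraMap R P r) • x = r • x
    rw [π.commutes, algebraMap_smul]
  haveI := Module.FinitePresentation.trans P F B
  haveI := Module.FinitePresentation.trans P G B
  haveI := Module.FinitePresentation.trans P H B
  obtain ⟨a, m, h, r, U, V, W, hUVW⟩ := exists_matrices (u.restrictScalars P) (v.restrictScalars P)
  obtain ⟨R₀, hR₀, U₀, V₀, W₀, hU, hV, hW⟩ := exists_model U V W
  refine ⟨σ, inferInstance, R₀, hR₀, a, m, h, r, U₀, V₀, W₀, fun K _ _ => ?_⟩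
  refine Iff.trans ?_ ((hUVW K).trans ?_)
  · exact Iff.rfl
  · rw [← hU, ← hV, ← hW]
    exact goodMat_map K U₀ V₀ W₀

theorem isConstructible_exact {R B : Type u} [CommRing R] [CommRing B] [Algebra R B] [Algebra.FinitePresentation R B]
    {F G H : Type u} [AddCommGroup F] [Module B F] [Module R F] [IsScalarTower R B F] [Module.FinitePresentation B F]
    [AddCommGroup G] [Module B G] [Module R G] [IsScalarTower R B G] [Module.FinitePresentation B G]
    [AddCommGroup H] [Module B H] [Module R H] [IsScalarTower R B H] [Module.FinitePresentation B H]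
    (u : F →ₗ[B] G) (v : G →ₗ[B] H) :
    Topology.IsConstructible {p : PrimeSpectrum R |
      Function.Exact ((u.restrictScalars R).baseChange p.asIdeal.ResidueField)
        ((v.restrictScalars R).baseChange p.asIdeal.ResidueField)} := by
  obtain ⟨σ, _, R₀, _, a, m, h, r, U, V, W, H⟩ := exists_goodMat (R := R) u v
  convert RichLib.FibreLoci.isConstructible_preimage_comap (algebraMap R₀ R) (isConstructible_goodMat U V W) using 1
  ext q
  let p := PrimeSpectrum.comap (algebraMap R₀ R) q
  obtain ⟨g, hg, hs⟩ := exists_stratum U V W p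
  refine (H q.asIdeal.ResidueField).trans (hs _ p.asIdeal.ResidueField ?_ ?_ ?_ ?_)
  · intro x hx
    rw [RingHom.mem_ker, IsScalarTower.algebraMap_apply R₀ R q.asIdeal.ResidueField]
    exact Ideal.algebraMap_residueField_eq_zero.2 hx
  · exact fun x hx => Ideal.algebraMap_residueField_eq_zero.2 hx
  · rw [IsScalarTower.algebraMap_apply R₀ R q.asIdeal.ResidueField]
    exact fun hx => hg (Ideal.algebraMap_residueField_eq_zero.1 hx : algebraMap R₀ R g ∈ q.asIdeal)
  · exact fun hx => hg (Ideal.algebraMap_residueField_eq_zero.1 hx)

theorem exists_exact_of_generic {R B : Type u} [CommRing R] [IsDomain R]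
    [CommRing B] [Algebra R B] [Algebra.FinitePresentation R B]
    {F G H : Type u} [AddCommGroup F] [Module B F] [Module R F] [IsScalarTower R B F] [Module.FinitePresentation B F]
    [AddCommGroup G] [Module B G] [Module R G] [IsScalarTower R B G] [Module.FinitePresentation B G]
    [AddCommGroup H] [Module B H] [Module R H] [IsScalarTower R B H] [Module.FinitePresentation B H]
    (u : F →ₗ[B] G) (v : G →ₗ[B] H)
    (hgen : Function.Exact ((u.restrictScalars R).baseChange (FractionRing R))
      ((v.restrictScalars R).baseChange (FractionRing R))) :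
    ∃ f : R, f ≠ 0 ∧ ∀ p : PrimeSpectrum R, f ∉ p.asIdeal →
      Function.Exact ((u.restrictScalars R).baseChange p.asIdeal.ResidueField)
        ((v.restrictScalars R).baseChange p.asIdeal.ResidueField) := by
  obtain ⟨σ, _, R₀, _, a, m, h, r, U, V, W, H⟩ := exists_goodMat (R := R) u v
  obtain ⟨g, hg, hs⟩ := exists_stratum U V W (⟨⊥, Ideal.isPrime_bot⟩ : PrimeSpectrum R₀)
  have hg0 : (g : R) ≠ 0 := fun h0 => hg ((Submodule.mem_bot R₀).2 (Subtype.ext h0))
  refine ⟨g, hg0, fun p hp => (H p.asIdeal.ResidueField).2 ?_⟩
  refine (hs (FractionRing R) p.asIdeal.ResidueField bot_le bot_le ?_ ?_).1 ((H (FractionRing R)).1 hgen)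
  · rw [IsScalarTower.algebraMap_apply R₀ R (FractionRing R)]
    exact fun hx => hg0 (IsFractionRing.injective R (FractionRing R) (by rw [map_zero]; exact hx))
  · rw [IsScalarTower.algebraMap_apply R₀ R p.asIdeal.ResidueField]
    exact fun hx => hp (Ideal.algebraMap_residueField_eq_zero.1 hx : algebraMap R₀ R g ∈ p.asIdeal)

end FibExactLib
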