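import Groth.Agent.FibExactLib.Generic
import Groth.Agent.RichLib.FibreLoci
import Mathlib

/-! # Fibrewise exactness for polynomial matrices, strata and models over finitely generated rings -/

set_option autoImplicit false

universe u

open TensorProduct MvPolynomial

namespace FibExactLib

section transport

variable {K : Type*} [CommRing K] {A0 A1 A2 A3 B0 B1 B2 B3 : Type*}
  [AddCommGroup A0] [Module K A0] [AddCommGroup A1] [Module K A1] [AddCommGroup A2] [Module K A2] [AddCommGroup A3] [Module K A3]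
  [AddCommGroup B0] [Module K B0] [AddCommGroup B1] [Module K B1] [AddCommGroup B2] [Module K B2] [AddCommGroup B3] [Module K B3]

theorem good_congr (u : A0 →ₗ[K] A1) (v : A1 →ₗ[K] A2) (w : A3 →ₗ[K] A2)
    (u' : B0 →ₗ[K] B1) (v' : B1 →ₗ[K] B2) (w' : B3 →ₗ[K] B2)
    (e0 : A0 ≃ₗ[K] B0) (e1 : A1 ≃ₗ[K] B1) (e2 : A2 ≃ₗ[K] B2) (e3 : A3 ≃ₗ[K] B3)
    (hu : ∀ a, u' (e0 a) = e1 (u a)) (hv : ∀ a, v' (e1 a) = e2 (v a)) (hw : ∀ a, w' (e3 a) = e2 (w a)) :
    Good u v w ↔ Good u' v' w' := by
  have h1 : ∀ a, v' (e1 a) ∈ LinearMap.range w' ↔ v a ∈ LinearMap.range w := fun a =>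
    ⟨fun ⟨b, hb⟩ => ⟨e3.symm b, e2.injective (by rw [← hw, e3.apply_symm_apply, hb, hv])⟩,
      fun ⟨b, hb⟩ => ⟨e3 b, by rw [hw, hb, hv]⟩⟩
  have h2 : ∀ a, e1 a ∈ LinearMap.range u' ↔ a ∈ LinearMap.range u := fun a =>
    ⟨fun ⟨b, hb⟩ => ⟨e0.symm b, e1.injective (by rw [← hu, e0.apply_symm_apply, hb])⟩,
      fun ⟨b, hb⟩ => ⟨e0 b, by rw [hu, hb]⟩⟩
  exact ⟨fun h b => by obtain ⟨a, rfl⟩ := e1.surjective b; rw [h1, h2]; exact h a,
    fun h a => by rw [← h1, ← h2]; exact h (e1 a)⟩

end transport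

variable {σ : Type u} {R : Type u} [CommRing R]

/-- The linear map of a polynomial matrix, over the coefficient ring. -/
noncomputable abbrev matMap {n m : ℕ} (M : Matrix (Fin m) (Fin n) (MvPolynomial σ R)) :
    (Fin n → MvPolynomial σ R) →ₗ[R] (Fin m → MvPolynomial σ R) :=
  (Matrix.mulVecLin M).restrictScalars R

/-- The fibre at `K` of a polynomial matrix sequence is exact. -/
def GoodMat (R : Type u) [CommRing R] (K : Type u) [Field K] [Algebra R K] {a m h r : ℕ}
    (U : Matrix (Fin m) (Fin a) (MvPolynomial σ R)) (V : Matrix (Fin h) (Fin m) (MvPolynomial σ R))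
    (W : Matrix (Fin h) (Fin r) (MvPolynomial σ R)) : Prop :=
  Good ((matMap U).baseChange K) ((matMap V).baseChange K) ((matMap W).baseChange K)

/-- Base change of polynomial vectors. -/
noncomputable def psi (R₀ R : Type u) [CommRing R₀] [CommRing R] [Algebra R₀ R] (σ : Type u) (n : ℕ) :
    R ⊗[R₀] (Fin n → MvPolynomial σ R₀) ≃ₗ[R] (Fin n → MvPolynomial σ R) :=
  (TensorProduct.piRight R₀ R R fun _ : Fin n => MvPolynomial σ R₀).trans
    (LinearEquiv.piCongrRight fun _ => (MvPolynomial.algebraTensorAlgEquiv R₀ R).toLinearEquiv)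

theorem psi_tmul {R₀ R : Type u} [CommRing R₀] [CommRing R] [Algebra R₀ R] {n : ℕ} (r : R)
    (v : Fin n → MvPolynomial σ R₀) :
    psi R₀ R σ n (r ⊗ₜ v) = fun i => r • MvPolynomial.map (algebraMap R₀ R) (v i) := by
  funext i
  simp [psi]

theorem psi_matMap {R₀ R : Type u} [CommRing R₀] [CommRing R] [Algebra R₀ R] {n m : ℕ}
    (M : Matrix (Fin m) (Fin n) (MvPolynomial σ R₀)) (z : R ⊗[R₀] (Fin n → MvPolynomial σ R₀)) :
    matMap (M.map (MvPolynomial.map (algebraMap R₀ R))) (psi R₀ R σ n z) =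
      psi R₀ R σ m ((matMap M).baseChange R z) := by
  induction z with
  | zero => simp
  | add a b ha hb => simp only [map_add, ha, hb]
  | tmul r v =>
    rw [LinearMap.baseChange_tmul, psi_tmul, psi_tmul]
    funext i
    simp [matMap, Matrix.mulVec, dotProduct, Finset.smul_sum, map_sum]

theorem goodMat_map {R₀ : Type u} [CommRing R₀] [Algebra R₀ R] (K : Type u) [Field K] [Algebra R₀ K] [Algebra R K]
    [IsScalarTower R₀ R K] {a m h r : ℕ}
    (U : Matrix (Fin m) (Fin a) (MvPolynomial σ R₀)) (V : Matrix (Fin h) (Fin m) (MvPolynomial σ R₀))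
    (W : Matrix (Fin h) (Fin r) (MvPolynomial σ R₀)) :
    GoodMat R K (U.map (MvPolynomial.map (algebraMap R₀ R))) (V.map (MvPolynomial.map (algebraMap R₀ R)))
        (W.map (MvPolynomial.map (algebraMap R₀ R))) ↔ GoodMat R₀ K U V W := by
  let E : ∀ n, K ⊗[R] (Fin n → MvPolynomial σ R) ≃ₗ[K] K ⊗[R₀] (Fin n → MvPolynomial σ R₀) := fun n =>
    (AlgebraTensorModule.congr (LinearEquiv.refl K K) (psi R₀ R σ n).symm).trans
      (AlgebraTensorModule.cancelBaseChange R₀ R K K (Fin n → MvPolynomial σ R₀))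
  have key : ∀ {n k : ℕ} (M : Matrix (Fin k) (Fin n) (MvPolynomial σ R₀)) (z : K ⊗[R] (Fin n → MvPolynomial σ R)),
      (matMap M).baseChange K (E n z) = E k ((matMap (M.map (MvPolynomial.map (algebraMap R₀ R)))).baseChange K z) := by
    intro n k M z
    induction z with
    | zero => simp
    | add x y hx hy => simp only [map_add, hx, hy]
    | tmul c v =>
      obtain ⟨w, rfl⟩ := (psi R₀ R σ n).surjective v
      rw [LinearMap.baseChange_tmul, psi_matMap]
      simp only [E, LinearEquiv.trans_apply, AlgebraTensorModule.congr_tmul, LinearEquiv.refl_apply,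
        LinearEquiv.symm_apply_apply]
      induction w with
      | zero => simp
      | add x y hx hy => simp only [tmul_add, map_add, hx, hy]
      | tmul r v => simp
  exact good_congr _ _ _ _ _ _ (E a) (E m) (E h) (E r) (key U) (key V) (key W)

section Noetherian

variable {R₀ : Type u} [CommRing R₀] [IsNoetherianRing R₀] [Finite σ] {a m h r : ℕ}
  (U : Matrix (Fin m) (Fin a) (MvPolynomial σ R₀)) (V : Matrix (Fin h) (Fin m) (MvPolynomial σ R₀))
  (W : Matrix (Fin h) (Fin r) (MvPolynomial σ R₀))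

theorem exists_stratum (p : PrimeSpectrum R₀) :
    ∃ g ∉ p.asIdeal, ∀ (K L : Type u) [Field K] [Algebra R₀ K] [Field L] [Algebra R₀ L],
      p.asIdeal ≤ RingHom.ker (algebraMap R₀ K) → p.asIdeal ≤ RingHom.ker (algebraMap R₀ L) →
      algebraMap R₀ K g ≠ 0 → algebraMap R₀ L g ≠ 0 → (GoodMat R₀ K U V W ↔ GoodMat R₀ L U V W) := by
  let D := R₀ ⧸ p.asIdeal
  let f := MvPolynomial.map (σ := σ) (algebraMap R₀ D)
  obtain ⟨g, hg, H⟩ := exists_uniform (D := D) (S := MvPolynomial σ D)
    (Matrix.mulVecLin (U.map f)) (Matrix.mulVecLin (V.map f)) (Matrix.mulVecLin (W.map f))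
  obtain ⟨g, rfl⟩ := Ideal.Quotient.mk_surjective g
  refine ⟨g, fun hp => hg (Ideal.Quotient.eq_zero_iff_mem.2 hp), fun K L _ _ _ _ hK hL hgK hgL => ?_⟩
  letI : Algebra D K := (Ideal.Quotient.lift p.asIdeal (algebraMap R₀ K) fun x hx => hK hx).toAlgebra
  letI : Algebra D L := (Ideal.Quotient.lift p.asIdeal (algebraMap R₀ L) fun x hx => hL hx).toAlgebra
  haveI : IsScalarTower R₀ D K := IsScalarTower.of_algebraMap_eq fun _ => rfl
  haveI : IsScalarTower R₀ D L := IsScalarTower.of_algebraMap_eq fun _ => rfl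
  rw [← goodMat_map (R := D) K U V W, ← goodMat_map (R := D) L U V W]
  exact H K L hgK hgL

theorem isConstructible_goodMat :
    Topology.IsConstructible {p : PrimeSpectrum R₀ | GoodMat R₀ p.asIdeal.ResidueField U V W} := by
  refine RichLib.FibreLoci.isConstructible_of_stratum _ fun p => ?_
  obtain ⟨g, hg, H⟩ := exists_stratum U V W p
  refine ⟨g, hg, fun q hpq hgq => H _ _ ?_ ?_ ?_ ?_⟩
  · exact fun x hx => Ideal.algebraMap_residueField_eq_zero.2 (hpq hx)
  · exact fun x hx => Ideal.algebraMap_residueField_eq_zero.2 hx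
  · exact fun hx => hgq (Ideal.algebraMap_residueField_eq_zero.1 hx)
  · exact fun hx => hg (Ideal.algebraMap_residueField_eq_zero.1 hx)

end Noetherian

section Model

variable {F G H : Type u} [AddCommGroup F] [Module (MvPolynomial σ R) F] [Module R F] [IsScalarTower R (MvPolynomial σ R) F]
  [AddCommGroup G] [Module (MvPolynomial σ R) G] [Module R G] [IsScalarTower R (MvPolynomial σ R) G]
  [AddCommGroup H] [Module (MvPolynomial σ R) H] [Module R H] [IsScalarTower R (MvPolynomial σ R) H]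

theorem exists_lift {n k : ℕ} {M : Type u} [AddCommGroup M] [Module (MvPolynomial σ R) M]
    (π : (Fin k → MvPolynomial σ R) →ₗ[MvPolynomial σ R] M) (f : (Fin n → MvPolynomial σ R) →ₗ[MvPolynomial σ R] M)
    (hf : LinearMap.range f ≤ LinearMap.range π) :
    ∃ X : Matrix (Fin k) (Fin n) (MvPolynomial σ R), π ∘ₗ Matrix.mulVecLin X = f := by
  obtain ⟨l, hl⟩ := Module.projective_lifting_property π.rangeRestrict
    (f.codRestrict (LinearMap.range π) fun x => hf ⟨x, rfl⟩) π.surjective_rangeRestrict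
  refine ⟨LinearMap.toMatrix' l, LinearMap.ext fun x => ?_⟩
  rw [LinearMap.comp_apply, ← Matrix.toLin'_apply', Matrix.toLin'_toMatrix']
  exact congrArg Subtype.val (LinearMap.congr_fun hl x)

theorem exists_matrices [Module.FinitePresentation (MvPolynomial σ R) F] [Module.FinitePresentation (MvPolynomial σ R) G]
    [Module.FinitePresentation (MvPolynomial σ R) H] (u : F →ₗ[MvPolynomial σ R] G) (v : G →ₗ[MvPolynomial σ R] H) :
    ∃ (a m h r : ℕ) (U : Matrix (Fin m) (Fin a) (MvPolynomial σ R)) (V : Matrix (Fin h) (Fin m) (MvPolynomial σ R))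
      (W : Matrix (Fin h) (Fin r) (MvPolynomial σ R)), ∀ (K : Type u) [Field K] [Algebra R K],
      Function.Exact ((u.restrictScalars R).baseChange K) ((v.restrictScalars R).baseChange K) ↔ GoodMat R K U V W := by
  classical
  let P := MvPolynomial σ R
  obtain ⟨a₀, πF, hπF⟩ := Module.Finite.exists_fin' P F
  obtain ⟨m, πG, hπG⟩ := Module.Finite.exists_fin' P G
  obtain ⟨h, πH, hπH⟩ := Module.Finite.exists_fin' P H
  have hkG := Module.FinitePresentation.fg_ker πG hπG
  have hkH := Module.FinitePresentation.fg_ker πH hπH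
  obtain ⟨r, W₁, hW₁⟩ := (Submodule.fg_iff_exists_fin_linearMap P _).1 hkH
  have hS : ((LinearMap.range u).comap πG).FG := by
    refine Submodule.fg_of_fg_map_of_fg_inf_ker πG ?_ ?_
    · rw [Submodule.map_comap_eq_of_surjective hπG]
      rw [LinearMap.range_eq_map]
      exact (Module.Finite.fg_top (R := P) (M := F)).map u
    · rwa [inf_eq_right.2 (LinearMap.ker_le_comap πG)]
  obtain ⟨a, U₁, hU₁⟩ := (Submodule.fg_iff_exists_fin_linearMap P _).1 hS
  obtain ⟨V, hV⟩ := exists_lift πH (v ∘ₗ πG) (le_of_le_of_eq le_top (LinearMap.range_eq_top.2 hπH).symm)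
  obtain ⟨U, rfl⟩ : ∃ U, Matrix.mulVecLin U = U₁ :=
    ⟨LinearMap.toMatrix' U₁, by rw [← Matrix.toLin'_apply', Matrix.toLin'_toMatrix']⟩
  obtain ⟨W, rfl⟩ : ∃ W, Matrix.mulVecLin W = W₁ :=
    ⟨LinearMap.toMatrix' W₁, by rw [← Matrix.toLin'_apply', Matrix.toLin'_toMatrix']⟩
  refine ⟨a, m, h, r, U, V, W, fun K _ _ => ?_⟩
  let gR := πG.restrictScalars R
  let hR := πH.restrictScalars R
  have hexH : ∀ z, hR.lTensor K z = 0 ↔ z ∈ LinearMap.range (((Matrix.mulVecLin W).restrictScalars R).lTensor K) := fun z =>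
    lTensor_exact K (g := hR) (f := (Matrix.mulVecLin W).restrictScalars R)
      (fun y => ⟨fun hy => by
        have : y ∈ LinearMap.range (Matrix.mulVecLin W) := hW₁ ▸ hy
        exact this, fun hy => by
        have : y ∈ LinearMap.ker πH := hW₁ ▸ hy
        exact this⟩) hπH z
  have hvg : ∀ z, hR.lTensor K ((matMap V).lTensor K z) = (v.restrictScalars R).lTensor K (gR.lTensor K z) := fun z => by
    rw [← LinearMap.lTensor_comp_apply, ← LinearMap.lTensor_comp_apply]
    exact congrArg (fun φ => LinearMap.lTensor K φ z) (LinearMap.ext fun y => LinearMap.congr_fun hV y)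
  obtain ⟨L, hL⟩ := Module.projective_lifting_property πG (u ∘ₗ πF) hπG
  have hLS : LinearMap.range L ≤ LinearMap.range (Matrix.mulVecLin U) := by
    rw [hU₁]
    rintro _ ⟨x, rfl⟩
    exact ⟨πF x, (LinearMap.congr_fun hL x).symm⟩
  have hkS : LinearMap.ker πG ≤ LinearMap.range (Matrix.mulVecLin U) := hU₁.symm ▸ LinearMap.ker_le_comap πG
  have hmemU : ∀ z, z ∈ LinearMap.range (((Matrix.mulVecLin U).restrictScalars R).lTensor K) ↔
      gR.lTensor K z ∈ LinearMap.range ((u.restrictScalars R).lTensor K) := by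
    have hgen : ∀ (φ : (Fin a → P) →ₗ[R] (Fin m → P)) (N : Submodule R (Fin m → P)),
        (N ≤ LinearMap.range φ) → LinearMap.range (N.subtype.lTensor K) ≤ LinearMap.range (φ.lTensor K) := by
      intro φ N hN
      rintro _ ⟨z, rfl⟩
      induction z with
      | zero => simp
      | add x y hx hy => rw [map_add]; exact add_mem hx hy
      | tmul k x =>
        obtain ⟨y, hy⟩ := hN x.2
        exact ⟨k ⊗ₜ y, by rw [LinearMap.lTensor_tmul, hy]; rfl⟩
    intro z
    constructor
    · rintro ⟨y, rfl⟩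
      induction y with
      | zero => simp
      | add x y hx hy => rw [map_add, map_add]; exact add_mem hx hy
      | tmul k x =>
        have hx : πG (Matrix.mulVecLin U x) ∈ LinearMap.range u := show Matrix.mulVecLin U x ∈ (LinearMap.range u).comap πG from hU₁ ▸ ⟨x, rfl⟩
        obtain ⟨f, hf⟩ := hx
        exact ⟨k ⊗ₜ f, by
          simp only [LinearMap.lTensor_tmul]
          exact congrArg (fun t => k ⊗ₜ[R] t) hf⟩
    · rintro ⟨y, hy⟩
      obtain ⟨y, rfl⟩ := LinearMap.lTensor_surjective K (show Function.Surjective (πF.restrictScalars R) from hπF) y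
      rw [← LinearMap.lTensor_comp_apply, show u.restrictScalars R ∘ₗ πF.restrictScalars R = gR ∘ₗ L.restrictScalars R from
        LinearMap.ext fun x => (LinearMap.congr_fun hL x).symm, LinearMap.lTensor_comp_apply] at hy
      have h0 : gR.lTensor K (z - (L.restrictScalars R).lTensor K y) = 0 := by rw [map_sub, hy, sub_self]
      obtain ⟨w, hw⟩ := (lTensor_exact K (f := (LinearMap.ker gR).subtype)
        (LinearMap.exact_iff.2 (Submodule.range_subtype _).symm) (show Function.Surjective gR from hπG) _).1 h0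
      have h1 : (L.restrictScalars R).lTensor K y ∈ LinearMap.range (((Matrix.mulVecLin U).restrictScalars R).lTensor K) := by
        refine hgen ((Matrix.mulVecLin U).restrictScalars R) (LinearMap.range (L.restrictScalars R))
          (fun x ⟨t, ht⟩ => ht ▸ hLS ⟨t, rfl⟩) ⟨(L.restrictScalars R).rangeRestrict.lTensor K y, ?_⟩
        rw [← LinearMap.lTensor_comp_apply]; rfl
      have h2 : z - (L.restrictScalars R).lTensor K y ∈ LinearMap.range (((Matrix.mulVecLin U).restrictScalars R).lTensor K) :=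
        hgen ((Matrix.mulVecLin U).restrictScalars R) (LinearMap.ker gR) (fun x hx => hkS hx) ⟨w, hw⟩
      simpa using add_mem h1 h2
  show _ ↔ Good _ _ _
  simp only [Good, Function.Exact]
  constructor
  · intro hex x
    change ((matMap V).lTensor K x ∈ LinearMap.range (((Matrix.mulVecLin W).restrictScalars R).lTensor K)) ↔
      x ∈ LinearMap.range (((Matrix.mulVecLin U).restrictScalars R).lTensor K)
    rw [← hexH, hvg, hmemU]
    exact hex (gR.lTensor K x)
  · intro hG y
    obtain ⟨x, rfl⟩ := LinearMap.lTensor_surjective K (show Function.Surjective gR from hπG) y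
    change (v.restrictScalars R).lTensor K (gR.lTensor K x) = 0 ↔ _
    rw [← hvg, hexH]
    exact (hG x).trans (hmemU x)

/-- Finitely many polynomial matrices come from a finitely generated subring. -/
theorem exists_model {a m h r : ℕ} (U : Matrix (Fin m) (Fin a) (MvPolynomial σ R))
    (V : Matrix (Fin h) (Fin m) (MvPolynomial σ R)) (W : Matrix (Fin h) (Fin r) (MvPolynomial σ R)) :
    ∃ (R₀ : Subalgebra ℤ R) (_ : IsNoetherianRing R₀) (U₀ : Matrix (Fin m) (Fin a) (MvPolynomial σ R₀))
      (V₀ : Matrix (Fin h) (Fin m) (MvPolynomial σ R₀)) (W₀ : Matrix (Fin h) (Fin r) (MvPolynomial σ R₀)),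
      U₀.map (MvPolynomial.map (algebraMap R₀ R)) = U ∧ V₀.map (MvPolynomial.map (algebraMap R₀ R)) = V ∧
        W₀.map (MvPolynomial.map (algebraMap R₀ R)) = W := by
  classical
  let S : Set R := (⋃ i, ⋃ j, ((U i j).coeffs : Set R)) ∪ (⋃ i, ⋃ j, ((V i j).coeffs : Set R)) ∪
    (⋃ i, ⋃ j, ((W i j).coeffs : Set R))
  have hS : S.Finite := ((Set.finite_iUnion fun i => Set.finite_iUnion fun j => Finset.finite_toSet _).union
    (Set.finite_iUnion fun i => Set.finite_iUnion fun j => Finset.finite_toSet _)).union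
    (Set.finite_iUnion fun i => Set.finite_iUnion fun j => Finset.finite_toSet _)
  let R₀ := Algebra.adjoin ℤ S
  haveI : Algebra.FiniteType ℤ R₀ := ⟨(Subalgebra.fg_top R₀).2 (Subalgebra.fg_def.2 ⟨S, hS, rfl⟩)⟩
  have key : ∀ p : MvPolynomial σ R, (p.coeffs : Set R) ⊆ S →
      ∃ q : MvPolynomial σ R₀, MvPolynomial.map (algebraMap R₀ R) q = p := fun p hp =>
    (MvPolynomial.mem_range_map_iff_coeffs_subset.2 fun x hx => ⟨⟨x, Algebra.subset_adjoin (hp hx)⟩, rfl⟩)
  choose fU hfU using fun i j => key (U i j) fun x hx => Or.inl (Or.inl (Set.mem_iUnion₂.2 ⟨i, j, hx⟩))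
  choose fV hfV using fun i j => key (V i j) fun x hx => Or.inl (Or.inr (Set.mem_iUnion₂.2 ⟨i, j, hx⟩))
  choose fW hfW using fun i j => key (W i j) fun x hx => Or.inr (Set.mem_iUnion₂.2 ⟨i, j, hx⟩)
  exact ⟨R₀, Algebra.FiniteType.isNoetherianRing ℤ R₀, .of fU, .of fV, .of fW,
    Matrix.ext hfU, Matrix.ext hfV, Matrix.ext hfW⟩

end Model

end FibExactLib
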